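import Mathlib

/-! A map of finite flat modules which is bijective at the fibres of height at most one is bijective. -/

set_option autoImplicit false
universe u

open TensorProduct

namespace CodimOneIsoLib

variable {A B C : Type u} [CommRing A] [IsNoetherianRing A] [AddCommGroup B] [Module A B] [AddCommGroup C] [Module A C]
  [Module.Finite A B] [Module.Flat A B] [Module.Finite A C] [Module.Flat A C] (φ : B →ₗ[A] C)

/-- Every prime of height at most one has a field valued point at which `φ` is bijective. -/
def FibreBij : Prop :=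
  ∀ p : Ideal A, p.IsPrime → p.height ≤ 1 → ∃ (K : Type u) (_ : Field K) (_ : Algebra A K),
    RingHom.ker (algebraMap A K) = p ∧ Function.Bijective (φ.baseChange K)

omit [Module.Finite A B] [Module.Flat A B] [Module.Flat A C] in
theorem exists_smul_mem_range (h : FibreBij φ) (p : Ideal A) [p.IsPrime] (hp : p.height ≤ 1) :
    ∃ u : A, u ∉ p ∧ ∀ y : C, u • y ∈ LinearMap.range φ := by
  obtain ⟨K, _, _, hker, hb⟩ := h p inferInstance hp
  let M := C ⧸ LinearMap.range φ
  have h0 : Subsingleton (K ⊗[A] M) := by
    refine subsingleton_of_forall_eq 0 fun x => ?_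
    have hq := LinearMap.lTensor_surjective K (Submodule.mkQ_surjective (LinearMap.range φ))
    obtain ⟨y, rfl⟩ := hq x
    obtain ⟨z, rfl⟩ := hb.2 y
    rw [← LinearMap.coe_restrictScalars A (φ.baseChange K)]
    induction z using TensorProduct.induction_on with
    | zero => simp
    | tmul k b =>
      show (LinearMap.range φ).mkQ.lTensor K (k ⊗ₜ φ b) = 0
      rw [LinearMap.lTensor_tmul, Submodule.mkQ_apply,
        (Submodule.Quotient.mk_eq_zero _).2 (LinearMap.mem_range_self φ b), TensorProduct.tmul_zero]
    | add a b ha hb => rw [map_add, map_add, ha, hb, add_zero]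
  let f : p.ResidueField →+* K := Ideal.ResidueField.lift p (algebraMap A K) hker.ge fun x hx =>
    isUnit_iff_ne_zero.2 fun hc => hx (hker ▸ hc)
  letI := f.toAlgebra
  haveI : IsScalarTower A p.ResidueField K := IsScalarTower.of_algebraMap_eq fun x => by
    show _ = f (algebraMap A p.ResidueField x)
    simp [f]
  have h1 : Subsingleton (p.ResidueField ⊗[A] M) := by
    rw [← Module.FaithfullyFlat.subsingleton_tensorProduct_iff_right p.ResidueField K (N := p.ResidueField ⊗[A] M)]
    exact (AlgebraTensorModule.cancelBaseChange A p.ResidueField K K M).toEquiv.subsingleton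
  have h2 : (⟨p, inferInstance⟩ : PrimeSpectrum A) ∉ Module.support A M := fun hc =>
    not_nontrivial_iff_subsingleton.2 h1 ((Module.mem_support_iff_nontrivial_residueField_tensorProduct _).1 hc)
  rw [Module.mem_support_iff_of_finite, SetLike.not_le_iff_exists] at h2
  obtain ⟨u, hu, hup⟩ := h2
  exact ⟨u, hup, fun y => (Submodule.Quotient.mk_eq_zero _).1
    ((Submodule.Quotient.mk_smul _ u y).trans (Module.mem_annihilator.1 hu _))⟩

theorem finrank_fibre (q p : Ideal A) [q.IsPrime] [p.IsPrime] (hpq : p ≤ q) (K : Type u) [Field K] [Algebra A K]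
    (hker : RingHom.ker (algebraMap A K) = p) (N : Type u) [AddCommGroup N] [Module A N] [Module.Finite A N]
    [Module.Flat A N] :
    Module.finrank K (K ⊗[A] N) = Module.finrank (Localization.AtPrime q) (LocalizedModule q.primeCompl N) := by
  let A' := Localization.AtPrime q
  letI : Algebra A' K := (IsLocalization.lift (M := q.primeCompl) (S := A') (g := algebraMap A K) fun x =>
    isUnit_iff_ne_zero.2 fun hc => x.2 (hpq (hker ▸ hc))).toAlgebra
  haveI : IsScalarTower A A' K := IsScalarTower.of_algebraMap_eq fun x => (IsLocalization.lift_eq _ x).symm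
  haveI : Module.Finite A' (LocalizedModule q.primeCompl N) :=
    Module.Finite.of_isLocalizedModule q.primeCompl (LocalizedModule.mkLinearMap q.primeCompl N)
  haveI : Module.Flat A' (LocalizedModule q.primeCompl N) := inferInstance
  haveI : Module.Free A' (LocalizedModule q.primeCompl N) := Module.free_of_flat_of_isLocalRing
  have h₁ : IsBaseChange A' (LocalizedModule.mkLinearMap q.primeCompl N) :=
    IsLocalizedModule.isBaseChange q.primeCompl _ _
  have h₂ : IsBaseChange K (TensorProduct.mk A' K (LocalizedModule q.primeCompl N) 1) :=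
    TensorProduct.isBaseChange _ _ _
  rw [(h₁.comp h₂).equiv.finrank_eq]
  exact Module.finrank_baseChange

theorem bijective_localized (h : FibreBij φ) (q : Ideal A) [q.IsPrime] :
    Function.Bijective (LocalizedModule.map q.primeCompl φ) := by
  let S := q.primeCompl
  let A' := Localization.AtPrime q
  haveI : Module.Finite A' (LocalizedModule S B) :=
    Module.Finite.of_isLocalizedModule S (LocalizedModule.mkLinearMap S B)
  haveI : Module.Finite A' (LocalizedModule S C) :=
    Module.Finite.of_isLocalizedModule S (LocalizedModule.mkLinearMap S C)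
  haveI : Module.Free A' (LocalizedModule S B) := Module.free_of_flat_of_isLocalRing
  haveI : Module.Free A' (LocalizedModule S C) := Module.free_of_flat_of_isLocalRing
  haveI : IsNoetherianRing A' := IsLocalization.isNoetherianRing S _ inferInstance
  set ψ := LocalizedModule.map S φ with hψ
  obtain ⟨p₀, hp₀, hp₀q⟩ := Ideal.exists_minimalPrimes_le (bot_le : (⊥ : Ideal A) ≤ q)
  haveI := hp₀.isPrime
  have hr : Module.finrank A' (LocalizedModule S B) = Module.finrank A' (LocalizedModule S C) := by
    have hh : p₀.height ≤ 1 := by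
      rw [Ideal.height_eq_zero_iff.2 hp₀]
      exact zero_le_one
    obtain ⟨K, _, _, hker, hb⟩ := h p₀ inferInstance hh
    rw [← finrank_fibre q p₀ hp₀q K hker B, ← finrank_fibre q p₀ hp₀q K hker C]
    exact (LinearEquiv.ofBijective _ hb).finrank_eq
  obtain ⟨e⟩ := FiniteDimensional.nonempty_linearEquiv_of_finrank_eq hr
  let θ : LocalizedModule S B →ₗ[A'] LocalizedModule S B := e.symm.toLinearMap ∘ₗ ψ
  suffices hd : IsUnit (LinearMap.det θ) by
    have hθ : IsUnit θ := LinearMap.isUnit_iff_isUnit_det θ |>.2 hd
    have := (Module.End.isUnit_iff θ).1 hθ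
    have e2 : (ψ : LocalizedModule S B → LocalizedModule S C) = e ∘ θ := by
      funext x; simp [θ]
    rw [e2]
    exact e.bijective.comp this
  by_contra hd
  obtain ⟨p', hp'⟩ := Ideal.nonempty_minimalPrimes (I := Ideal.span {LinearMap.det θ})
    (fun hc => hd (Ideal.span_singleton_eq_top.1 hc))
  haveI := hp'.isPrime
  have hh : (p'.comap (algebraMap A A')).height ≤ 1 := by
    rw [← Ideal.under_def, IsLocalization.height_under S]
    exact Ideal.height_le_one_of_isPrincipal_of_mem_minimalPrimes _ p' hp'
  obtain ⟨u, hu, hrange⟩ := exists_smul_mem_range φ h (p'.comap (algebraMap A A')) hh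
  have hψr : ∀ y, algebraMap A A' u • y ∈ LinearMap.range ψ := by
    intro y
    induction y using LocalizedModule.induction_on with
    | h c s =>
      obtain ⟨b, hb⟩ := hrange c
      refine ⟨LocalizedModule.mk b s, ?_⟩
      rw [hψ, LocalizedModule.map_mk, hb, algebraMap_smul, LocalizedModule.smul'_mk]
  obtain ⟨χ, hχ⟩ := Module.projective_lifting_property
    (ψ.rangeRestrict) ((algebraMap A A' u • (LinearMap.id : LocalizedModule S C →ₗ[A'] _)).codRestrict _ hψr)
    ψ.surjective_rangeRestrict
  have h2 : θ ∘ₗ (χ ∘ₗ e.toLinearMap) = algebraMap A A' u • LinearMap.id := by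
    refine LinearMap.ext fun x => ?_
    have := congrArg Subtype.val (LinearMap.congr_fun hχ (e x))
    simp only [LinearMap.comp_apply, LinearMap.codRestrict_apply, LinearMap.smul_apply, LinearMap.id_apply] at this ⊢
    show e.symm (ψ (χ (e x))) = _
    rw [show ψ (χ (e x)) = algebraMap A A' u • e x from this, map_smul, e.symm_apply_apply]
  have h3 := congrArg LinearMap.det h2
  rw [LinearMap.det_comp, LinearMap.det_smul, LinearMap.det_id, mul_one] at h3
  refine hu (hp'.isPrime.mem_of_pow_mem _ (h3 ▸ p'.mul_mem_right _ (hp'.le (Ideal.mem_span_singleton_self _))))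

/-- Bijective at the fibres of height at most one implies bijective. -/
theorem bijective_of_fibreBij (h : FibreBij φ) : Function.Bijective φ := by
  refine bijective_of_isLocalized_maximal (fun (J : Ideal A) (_ : J.IsMaximal) => LocalizedModule J.primeCompl B)
    (fun J _ => LocalizedModule.mkLinearMap J.primeCompl B)
    (fun (J : Ideal A) (_ : J.IsMaximal) => LocalizedModule J.primeCompl C)
    (fun J _ => LocalizedModule.mkLinearMap J.primeCompl C) φ fun J hJ => ?_
  exact bijective_localized φ h J

end CodimOneIsoLib
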