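import Mathlib
import Groth.Agent.CodimOneIsoLib.Alg

/-! A morphism of finite flat schemes over a Noetherian base which is an isomorphism on the fibres over the
points of codimension at most one is an isomorphism. -/

set_option autoImplicit false
universe u

open CategoryTheory Limits AlgebraicGeometry TopologicalSpace TensorProduct

namespace CodimOneIsoLib

theorem isPullback_tensor (A B F : Type u) [CommRing A] [CommRing B] [CommRing F] [Algebra A B] [Algebra A F] :
    IsPullback (Spec.map (CommRingCat.ofHom (Algebra.TensorProduct.includeRight.toRingHom : B →+* F ⊗[A] B)))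
      (Spec.map (CommRingCat.ofHom (algebraMap F (F ⊗[A] B))))
      (Spec.map (CommRingCat.ofHom (algebraMap A B))) (Spec.map (CommRingCat.ofHom (algebraMap A F))) := by
  refine (IsPullback.of_iso_pullback ⟨?_⟩ (pullbackSpecIso A F B).symm ?_ ?_).flip
  · rw [← Spec.map_comp, ← Spec.map_comp]
    congr 1
    ext r
    exact ((Algebra.TensorProduct.includeRight : B →ₐ[A] F ⊗[A] B).commutes r).symm
  · exact pullbackSpecIso_inv_fst' A F B
  · exact pullbackSpecIso_inv_snd A F B

theorem height_le_one_iff {S : Scheme.{u}} {V : S.Opens} (hV : IsAffineOpen V) (q : PrimeSpectrum Γ(S, V)) :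
    ringKrullDim (S.presheaf.stalk (hV.fromSpec q)) = q.asIdeal.height := by
  have hy : hV.fromSpec q ∈ V := hV.range_fromSpec.subset ⟨q, rfl⟩
  letI := TopCat.Presheaf.algebra_section_stalk S.presheaf (⟨hV.fromSpec q, hy⟩ : V)
  haveI : IsLocalization.AtPrime (S.presheaf.stalk (hV.fromSpec q)) q.asIdeal := hV.isLocalization_stalk' q hy
  exact IsLocalization.AtPrime.ringKrullDim_eq_height q.asIdeal (S.presheaf.stalk (hV.fromSpec q))

theorem ker_evaluation {S : Scheme.{u}} {V : S.Opens} (hV : IsAffineOpen V) (q : PrimeSpectrum Γ(S, V))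
    (hy : hV.fromSpec q ∈ V) : RingHom.ker (S.evaluation V (hV.fromSpec q) hy).hom = q.asIdeal := by
  ext r
  rw [RingHom.mem_ker]
  refine (S.evaluation_eq_zero_iff_notMem_basicOpen (U := V) _ hy r).trans ?_
  have := hV.fromSpec_preimage_basicOpen r
  rw [← not_iff_not, not_not]
  exact iff_of_eq (congrArg (fun W : (Spec Γ(S, V)).Opens => q ∈ W) this)

set_option backward.isDefEq.respectTransparency false in
/-- A morphism of finite flat schemes which is an isomorphism on all fibres of codimension at most one is an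
isomorphism. -/
theorem isIso_of_fibres {S P Q : Scheme.{u}} [IsNoetherian S] (ψ : P ⟶ Q) (g : Q ⟶ S) (f : P ⟶ S) (hf : ψ ≫ g = f)
    [IsFinite f] [Flat f] [IsFinite g] [Flat g]
    (h : ∀ s : S, ringKrullDim (S.presheaf.stalk s) ≤ 1 →
      IsIso (pullback.map f (S.fromSpecResidueField s) g (S.fromSpecResidueField s) ψ (𝟙 _) (𝟙 S)
        ((Category.comp_id _).trans hf.symm) ((Category.comp_id _).trans (Category.id_comp _).symm))) :
    IsIso ψ := by
  subst hf
  haveI : IsFinite ψ := IsFinite.of_comp ψ g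
  refine (IsZariskiLocalAtTarget.iff_of_iSup_eq_top (P := MorphismProperty.isomorphisms Scheme.{u})
    (fun V : S.affineOpens => g ⁻¹ᵁ V.1) ?_).2 ?_
  · rw [← Scheme.Hom.preimage_iSup, iSup_affineOpens_eq_top, Scheme.Hom.preimage_top]
  rintro ⟨V, hV'⟩
  have hV : IsAffineOpen V := hV'
  have hW : IsAffineOpen (g ⁻¹ᵁ V) := hV.preimage g
  have hW' : IsAffineOpen (ψ ⁻¹ᵁ g ⁻¹ᵁ V) := hW.preimage ψ
  show IsIso (ψ ∣_ g ⁻¹ᵁ V)
  rw [isIso_morphismRestrict_iff_isIso_app ψ hW, ConcreteCategory.isIso_iff_bijective]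
  haveI : IsNoetherianRing Γ(S, V) := IsLocallyNoetherian.component_noetherian ⟨V, hV⟩
  letI := (g.app V).hom.toAlgebra
  letI : Algebra Γ(S, V) Γ(P, ψ ⁻¹ᵁ g ⁻¹ᵁ V) := ((ψ ≫ g).app V).hom.toAlgebra
  haveI : Module.Finite Γ(S, V) Γ(Q, g ⁻¹ᵁ V) := g.finite_app V hV
  haveI : Module.Finite Γ(S, V) Γ(P, ψ ⁻¹ᵁ g ⁻¹ᵁ V) := (ψ ≫ g).finite_app V hV
  haveI : Module.Flat Γ(S, V) Γ(Q, g ⁻¹ᵁ V) := by
    have := g.flat_appLE hV hW le_rfl
    rwa [← Scheme.Hom.app_eq_appLE] at this
  haveI : Module.Flat Γ(S, V) Γ(P, ψ ⁻¹ᵁ g ⁻¹ᵁ V) := by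
    have := (ψ ≫ g).flat_appLE hV hW' le_rfl
    erw [← Scheme.Hom.app_eq_appLE] at this
    exact this
  let φ : Γ(Q, g ⁻¹ᵁ V) →ₐ[Γ(S, V)] Γ(P, ψ ⁻¹ᵁ g ⁻¹ᵁ V) :=
    { (ψ.app (g ⁻¹ᵁ V)).hom with
      commutes' := fun r => by
        show (g.app V ≫ ψ.app (g ⁻¹ᵁ V)) r = ((ψ ≫ g).app V) r
        rw [Scheme.Hom.comp_app]
        rfl }
  refine bijective_of_fibreBij φ.toLinearMap fun p hp hht => ?_
  set q : PrimeSpectrum Γ(S, V) := ⟨p, hp⟩
  have hy : hV.fromSpec q ∈ V := hV.range_fromSpec.subset ⟨q, rfl⟩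
  have hh : IsIso _ := h (hV.fromSpec q) (by rw [height_le_one_iff hV q]; exact_mod_cast hht)
  have hker := ker_evaluation hV q hy
  generalize hV.fromSpec q = y at hh hy hker
  set K := S.residueField y
  letI : Algebra Γ(S, V) K := (S.evaluation V y hy).hom.toAlgebra
  refine ⟨K, inferInstance, inferInstance, hker, ?_⟩
  set j : Spec K ⟶ Spec Γ(S, V) := Spec.map (CommRingCat.ofHom (algebraMap Γ(S, V) K)) with hj
  have hjy : j ≫ hV.fromSpec = S.fromSpecResidueField y := by
    show Spec.map (S.evaluation V y hy) ≫ hV.fromSpec = _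
    rw [Scheme.evaluation, Spec.map_comp, Category.assoc]
    exact congrArg (Spec.map (S.residue _) ≫ ·) (hV.fromSpecStalk_eq_fromSpecStalk hy)
  have hj' : j = Spec.map (CommRingCat.ofHom (algebraMap Γ(S, V) K)) := hj
  have sqQ : IsPullback hW.fromSpec (Spec.map (g.app V)) g hV.fromSpec := by
    refine (IsOpenImmersion.isPullback (Spec.map (g.app V)) hW.fromSpec hV.fromSpec g ?_ ?_).flip
    · rw [Scheme.Hom.app_eq_appLE, IsAffineOpen.SpecMap_appLE_fromSpec g hV hW le_rfl]
    · rw [hV.opensRange_fromSpec, hW.opensRange_fromSpec]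
  have hW'' : IsAffineOpen ((ψ ≫ g) ⁻¹ᵁ V) := hW'
  have sqP : IsPullback (hW'.fromSpec)
      (Spec.map (CommRingCat.ofHom (algebraMap Γ(S, V) Γ(P, ψ ⁻¹ᵁ g ⁻¹ᵁ V)))) (ψ ≫ g) hV.fromSpec := by
    show IsPullback hW''.fromSpec (Spec.map ((ψ ≫ g).app V)) (ψ ≫ g) hV.fromSpec
    refine (IsOpenImmersion.isPullback (Spec.map ((ψ ≫ g).app V)) hW''.fromSpec hV.fromSpec (ψ ≫ g) ?_ ?_).flip
    · rw [Scheme.Hom.app_eq_appLE, IsAffineOpen.SpecMap_appLE_fromSpec (ψ ≫ g) hV hW'' le_rfl]
    · rw [hV.opensRange_fromSpec, hW''.opensRange_fromSpec]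
  have pQ := (isPullback_tensor Γ(S, V) Γ(Q, g ⁻¹ᵁ V) K).paste_horiz sqQ
  have pP := (isPullback_tensor Γ(S, V) Γ(P, ψ ⁻¹ᵁ g ⁻¹ᵁ V) K).paste_horiz sqP
  rw [← hj', hjy] at pQ pP
  let m := (Algebra.TensorProduct.map (AlgHom.id K K) φ).toRingHom
  have key : pP.isoPullback.hom ≫
      pullback.map (ψ ≫ g) (S.fromSpecResidueField y) g (S.fromSpecResidueField y)
        ψ (𝟙 _) (𝟙 S) ((Category.comp_id _).trans rfl) ((Category.comp_id _).trans (Category.id_comp _).symm) =
      Spec.map (CommRingCat.ofHom m) ≫ pQ.isoPullback.hom := by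
    apply pullback.hom_ext
    · refine (Category.assoc _ _ _).trans ((congrArg (pP.isoPullback.hom ≫ ·) (pullback.lift_fst _ _ _)).trans ?_)
      refine ((Category.assoc _ _ _).symm.trans (congrArg (· ≫ ψ) pP.isoPullback_hom_fst)).trans ?_
      refine Eq.trans ?_ (((congrArg (Spec.map (CommRingCat.ofHom m) ≫ ·) pQ.isoPullback_hom_fst).symm.trans
        (Category.assoc _ _ _).symm))
      refine ((Category.assoc _ _ _).trans (congrArg (_ ≫ ·)
        (IsAffineOpen.SpecMap_appLE_fromSpec ψ hW hW' le_rfl).symm)).trans ?_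
      refine (Category.assoc _ _ _).symm.trans ((congrArg (· ≫ hW.fromSpec) ?_).trans (Category.assoc _ _ _))
      refine (Spec.map_comp _ _).symm.trans (Eq.trans (congrArg Spec.map ?_) (Spec.map_comp _ _))
      rw [← Scheme.Hom.app_eq_appLE]
      ext b
      show (1 : K) ⊗ₜ[Γ(S, V)] φ b = Algebra.TensorProduct.map (AlgHom.id K K) φ ((1 : K) ⊗ₜ[Γ(S, V)] b)
      simp
    · refine (Category.assoc _ _ _).trans ((congrArg (pP.isoPullback.hom ≫ ·)
        ((pullback.lift_snd _ _ _).trans (Category.comp_id _))).trans ?_)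
      refine pP.isoPullback_hom_snd.trans (Eq.trans ?_
        (((congrArg (Spec.map (CommRingCat.ofHom m) ≫ ·) pQ.isoPullback_hom_snd).symm.trans
        (Category.assoc _ _ _).symm)))
      refine (congrArg Spec.map ?_).trans (Spec.map_comp _ _)
      ext k
      show algebraMap K (K ⊗[Γ(S, V)] _) k = Algebra.TensorProduct.map (AlgHom.id K K) φ (algebraMap K _ k)
      simp
  have hm : IsIso (Spec.map (CommRingCat.ofHom m)) := by
    have : IsIso (Spec.map (CommRingCat.ofHom m) ≫ pQ.isoPullback.hom) := by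
      rw [← key]
      exact IsIso.comp_isIso' inferInstance hh
    exact IsIso.of_isIso_comp_right _ pQ.isoPullback.hom
  rw [isIso_SpecMap_iff] at hm
  have e : ⇑(φ.toLinearMap.baseChange K) = ⇑m := by
    refine funext fun x => ?_
    induction x using TensorProduct.induction_on with
    | zero => simp
    | tmul k b => rfl
    | add a b ha hb => rw [map_add, map_add, ha, hb]
  rw [e]
  exact hm

end CodimOneIsoLib
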